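import Mathlib
import Cfsg.Agent.Lib.Suz.Enum

/-! Stabiliser chains, suborbits and normal closure certificates for the action on 1782 points (generated). -/

set_option maxRecDepth 100000
set_option Elab.async false

namespace CfsgLib.Suz

open CfsgLib.CosetEnum

def top : List (List ℕ) := [[0], [2], [4], [6], [8], [10], [12]]
def hs : List (List ℕ) := [[0], [2], [4], [6], [8], [10]]
def ks : List (List ℕ) := [[0], [2], [4], [6], [10], [12]]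
def chain : List Lev := [⟨0, [[0], [2], [4], [6], [8], [10], [12]], [6, 1, 0, 2, 5, 3, 1, 2, 4, 1, 5, 0, 3, 6, 1, 2, 3, 1, 6, 0, 5, 4, 2, 1, 0, 2, 1, 5], 1782⟩,
  ⟨995, [[0], [2], [4], [6], [8], [10]], [5, 1, 0, 2, 1, 3, 2, 0, 4, 1, 5, 3, 0, 2, 1, 5, 0, 3, 4, 1, 2, 0, 1], 416⟩,
  ⟨47, [[0], [2], [4], [6], [8]], [0, 3, 4, 1, 3, 2, 1, 3, 0, 4, 2, 1], 100⟩,
  ⟨21, [[2], [6, 4, 2, 1], [8, 6, 4, 2, 0, 3, 5, 7, 9], [4]], [0, 1, 0, 3, 1, 2, 3, 0, 1, 0, 3, 1, 0, 3, 1, 0, 3, 1, 1], 672⟩,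
  ⟨14, [[2, 4], [0, 2, 0, 2, 4, 6, 4, 2, 0, 6, 4, 2, 0, 2, 6, 4, 6]], [0, 0, 1, 1], 9⟩]
theorem chain_ok : chainB S4_nets (imOf [0, 1, 2, 3, 4, 5, 6]) 11 top chain [] = true := by decide +kernel
def chainK : List Lev := [⟨14, [[0], [2], [4], [6], [8], [10]], [0, 2, 4, 1, 3, 2, 4, 0, 5, 1, 0, 4, 2, 3, 5, 1, 0, 2, 1, 4, 0], 1620⟩,
  ⟨28, [[10], [8, 2, 10, 5, 3, 9], [2], [6]], [0, 2, 0, 1, 0, 3, 2, 0, 1, 0, 2, 3, 0, 1, 3, 2, 0, 2, 1], 672⟩,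
  ⟨7, [[6], [0, 2, 0, 10, 2, 0, 8], [4, 2, 8, 10, 2, 4, 6, 4, 2, 10, 9, 3, 5]], [0, 1, 2, 0, 1], 18⟩]
theorem chainK_ok : chainB S4_nets (imOf [0, 1, 2, 3, 4, 5, 6]) 11 ks chainK [] = true := by decide +kernel
def subs : List Sub := [⟨[12], 1, [1, 0, 2, 5, 3, 1, 2, 4, 1, 5, 0, 3, 1, 2, 3, 1, 0, 5, 1, 2, 4, 5, 1, 3], [0, 2, 1, 3, 6, 4, 2, 3, 5, 2, 6, 1, 4, 0, 2, 3, 4, 2, 0, 1, 6, 5, 3, 2, 1, 0, 2, 6]⟩,
  ⟨[12, 2, 4, 6, 4, 2, 12], 47, [0, 3, 4, 5, 1, 2, 3, 2, 1, 0, 3, 4, 5, 1, 2, 0, 1], [0, 1, 4, 5, 6, 2, 3, 4, 3, 2, 1, 4, 5, 6, 2, 0, 6, 1, 2, 3, 5, 2]⟩]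
theorem subs_ok : maxB S4_nets (imOf [0, 1, 2, 3, 4, 5, 6]) top hs 0 (Nat.sub (Nat.shiftLeft 1 1782) 1) subs = true := by decide +kernel
theorem ncl_ok : nclB S4_nets (imOf [0, 1, 2, 3, 4, 5, 6]) top (chain.map Lev.p) [6, 6, 10, 12, 12, 4, 12, 8, 6, 2] 11 [⟨[], 11, 2⟩, ⟨[0, 2, 2], 11, 2⟩, ⟨[10, 8, 8, 4], 15, 2⟩, ⟨[12, 8, 8, 2, 4], 11, 2⟩, ⟨[10, 2, 4, 6, 8, 8], 13, 2⟩, ⟨[10], 15, 2⟩, ⟨[2, 2, 2, 6, 8], 15, 2⟩] = true := by decide +kernel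
theorem orb_ok : orbitB S4_nets top [6, 1, 0, 2, 5, 3, 1, 2, 4, 1, 5, 0, 3, 6, 1, 2, 3, 1, 6, 0, 5, 4, 2, 1, 0, 2, 1, 5] 0 11 1782 = true := by decide +kernel
theorem orb_full : Nat.beq (bfs S4_nets top [6, 1, 0, 2, 5, 3, 1, 2, 4, 1, 5, 0, 3, 6, 1, 2, 3, 1, 6, 0, 5, 4, 2, 1, 0, 2, 1, 5] (Nat.shiftLeft 1 0)) (Nat.sub (Nat.shiftLeft 1 1782) 1) = true := by decide +kernel
theorem fix_ok : allL (fun w => fixesP S4_nets w 0) hs = true := by decide +kernel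
theorem sub1365_ok : orbitB S4_nets hs [1, 0, 2, 5, 3, 1, 2, 4, 1, 5, 0, 3, 1, 2, 3, 1, 0, 5, 1, 2, 4, 5, 1, 3] 1 11 1365 = true := by decide +kernel
theorem mov1365_ok : movesP S4_nets [12] 1 0 = true := by decide +kernel
theorem sub416_ok : orbitB S4_nets hs [0, 3, 4, 5, 1, 2, 3, 2, 1, 0, 3, 4, 5, 1, 2, 0, 1] 47 11 416 = true := by decide +kernel
theorem mov416_ok : movesP S4_nets [12, 2, 4, 6, 4, 2, 12] 47 0 = true := by decide +kernel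
def hints1 : List ℕ := [1025, 2049, 3073, 4097, 5121, 6145, 9217, 10241, 11265, 12289, 13313, 17409, 18433, 19457, 20481, 25601, 26625, 27649, 33793, 34817, 41985, 50177, 51201, 52225, 53249, 54273]
def hints2 : List ℕ := [26624, 1, 1025, 2049, 3073, 4097, 5121, 0, 26624, 6145, 7169, 8193, 9217, 10241, 1024, 6144, 26624, 11265, 12289, 13313, 14337, 2048, 7168, 11264, 26624, 15361, 16385, 17409, 3072, 8192, 12288, 15360, 26624, 18433, 19457, 4096, 9216, 13312, 16384, 18432, 26624, 20481, 5120, 10240, 14336, 17408, 19456, 20480, 26624, 21505, 22529, 23553, 24577, 25601]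

end CfsgLib.Suz
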